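import Cfsg.Agent.Lib.FischerExist27.M22
import Cfsg.Agent.S1685
import Cfsg.Agent.S1686
import Cfsg.Agent.S1696

/-!
Type M(22): a D-subgroup isomorphic to Ω(7, 3) of index prime to three, given an isomorphism from the
presented Fi22 that maps the generators into D.
-/

set_option autoImplicit false

namespace Cfsg.Agent.Lib.FischerMTypes95

open Cfsg.Agent.Lib.CosetEnum
open Cfsg.Spor

/-- The generators b, …, i. -/
abbrev gensO7 : Set (FreeGroup Fi22.Gen) :=
  {Fi22.b, Fi22.c, Fi22.d, Fi22.e, Fi22.f, Fi22.g, Fi22.h, Fi22.i}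

/-- The presented map. -/
abbrev pmk : FreeGroup Fi22.Gen →* Fi22 :=
  PresentedGroup.mk (coxRelators Fi22.edges ∪ {r | r ∈ Fi22.extra})

/-- the subgroup b, …, i carried into a group of type M(22) -/
theorem omega_seven {G : Type*} [Group G] [Finite G] {D : Set G}
    (he : ∃ e : Fi22 ≃* G, ∀ x, e (pmk (FreeGroup.of x)) ∈ D) :
    ∃ L : Subgroup G, Cfsg.IsDSubgroup D L ∧
      Nonempty (↥L ≃* Cfsg.POmega (ZMod 3) (Cfsg.quadFormOdd 3 (ZMod 3))) ∧
      ∀ P : Sylow 3 ↥L, ∃ P' : Sylow 3 G, (P : Subgroup ↥L).map L.subtype = (P' : Subgroup G) := by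
  obtain ⟨e₀, he⟩ := he
  let e : G ≃* Fi22 := e₀.symm
  let K : Subgroup Fi22 := (Subgroup.closure gensO7).map pmk
  let L : Subgroup G := K.map e.symm.toMonoidHom
  refine ⟨L, ?_, ?_, fun P => ?_⟩
  · refine le_antisymm ((Subgroup.closure_le _).2 fun x hx => hx.2) ?_
    show ((Subgroup.closure gensO7).map pmk).map e.symm.toMonoidHom ≤ _
    rw [MonoidHom.map_closure, MonoidHom.map_closure]
    refine (Subgroup.closure_le _).2 ?_
    rintro _ ⟨_, ⟨w, hw, rfl⟩, rfl⟩
    refine Subgroup.subset_closure ⟨?_, ?_⟩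
    · show e₀ (pmk w) ∈ D
      simp only [gensO7, Set.mem_insert_iff, Set.mem_singleton_iff] at hw
      rcases hw with rfl | rfl | rfl | rfl | rfl | rfl | rfl | rfl <;> exact he _
    · exact ⟨pmk w, ⟨w, Subgroup.subset_closure hw, rfl⟩, rfl⟩
  · obtain ⟨i⟩ := Cfsg.Agent.S1686.result
    exact ⟨((K.equivMapOfInjective e.symm.toMonoidHom e.symm.injective).symm).trans i⟩
  · obtain ⟨P', hP'⟩ := (P.isPGroup'.map L.subtype).exists_le_sylow
    refine ⟨P', Subgroup.eq_of_le_of_card_ge hP' (le_of_eq ?_)⟩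
    have hL : L.index = 14080 := by
      have h := K.index_map_equiv e.symm
      rw [show K.index = 14080 from Cfsg.Agent.S1685.result] at h
      exact h
    haveI : Fact (Nat.Prime 3) := ⟨Nat.prime_three⟩
    rw [Subgroup.card_map_of_injective L.subtype_injective, P'.card_eq_multiplicity,
      P.card_eq_multiplicity]
    congr 1
    have hc := L.card_mul_index
    rw [hL] at hc
    rw [← hc, Nat.factorization_mul Nat.card_pos.ne' (by norm_num)]
    simp [Nat.factorization_eq_zero_of_not_dvd (show ¬ 3 ∣ 14080 by norm_num)]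

end Cfsg.Agent.Lib.FischerMTypes95
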